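import Groth.Agent.H7Lim.DescendUnramified
import Groth.Agent.H13Desc.QuasiAffineDescent
import Mathlib.AlgebraicGeometry.Morphisms.UniversallyInjective

/-!
# Further properties of morphisms which descend to a stage (EGA IV 8.10.5)
-/

set_option autoImplicit false
set_option backward.isDefEq.respectTransparency false
set_option backward.defeqAttrib.useBackward true

universe u

open CategoryTheory Limits AlgebraicGeometry MorphismProperty TopologicalSpace Topology

namespace Groth.Agent.H06EGA8

open H7Lim

/-- Surjectivity descends. -/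
theorem descendsAffine_surjective : DescendsAffine.{u} @Surjective @LocallyOfFinitePresentation := by
  intro I _ _ D c hc _ _ i T a _ _ ha h
  have : LocallyOfFinitePresentation a := ha
  have : QuasiCompact a := quasiCompact_of_compactSpace a
  have hcons : IsLocallyConstructible (Set.range a) := by
    rw [← Set.image_univ]
    exact a.isLocallyConstructible_image IsConstructible.univ.isLocallyConstructible
  have hcompl : QCImage ((Set.range a)ᶜ : Set (D.obj i)) :=
    qcImage_of_isLocallyConstructible (isLocallyConstructible_compl hcons)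
  have : Surjective (pullback.snd a (c.π.app i)) := h
  obtain ⟨j, φ, hj⟩ := hcompl.exists_preimage_eq_empty hc (by
    rw [Set.preimage_compl, ← Scheme.Pullback.range_snd, Set.compl_empty_iff]
    exact (pullback.snd a (c.π.app i)).surjective.range_eq)
  refine ⟨j, φ, ⟨Set.range_eq_univ.mp ?_⟩⟩
  rw [Scheme.Pullback.range_snd, ← Set.compl_empty_iff, ← Set.preimage_compl]
  exact hj

/-- Being a monomorphism descends. -/
theorem descends_mono :
    Descends.{u} (MorphismProperty.monomorphisms Scheme.{u}) @LocallyOfFiniteType := by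
  intro J _ _ E d hd _ e _ _ T a _ _ ha (h : Mono (pullback.snd a (d.π.app e)))
  have : LocallyOfFiniteType a := ha
  obtain ⟨j, φ, hj⟩ := descends_isIso.diagonal J E d hd e a (Groth.Agent.S4599.result a)
    ((pullback.isIso_diagonal_iff _).mpr h)
  exact ⟨j, φ, (pullback.isIso_diagonal_iff _).mp hj⟩

/-- Universal injectivity descends. -/
theorem descends_universallyInjective :
    Descends.{u} @UniversallyInjective @LocallyOfFiniteType := by
  intro J _ _ E d hd _ e _ _ T a _ _ ha h
  have : LocallyOfFiniteType a := ha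
  obtain ⟨j, φ, hj⟩ := descendsAffine_surjective.descends.diagonal J E d hd e a
    (Groth.Agent.S4599.result a) ((UniversallyInjective.iff_diagonal _).mp h)
  exact ⟨j, φ, (UniversallyInjective.iff_diagonal _).mpr hj⟩

open H13Desc.QuasiAffineDescent in
/-- Quasi-affineness descends. -/
theorem descendsAffine_isQuasiAffine : DescendsAffine qAff.{u} ⊤ := by
  intro J _ _ E d hd _ _ i T a _ _ _ h
  have hlim := isLimitPbCone E i a hd
  have : IsAffineHom (d.π.app i) := isAffineHom_π_app E d hd i
  have : IsAffine (((Functor.const J).obj d.pt).obj i) := isAffine_of_isAffineHom (d.π.app i)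
  have : IsAffine d.pt := this
  have : Scheme.IsQuasiAffine (pbCone E d i a).pt :=
    isQuasiAffine_top (pullback.snd a (d.π.app i)) h
  obtain ⟨k, hk⟩ := Scheme.exists_isQuasiAffine_of_isLimit (pbDiagram E i a) _ hlim
  have : Scheme.IsQuasiAffine (pullback a (E.map k.hom)) := hk
  exact ⟨k.left, k.hom, of_isQuasiAffine _⟩

/-- Being an immersion descends. -/
theorem descendsAffine_isImmersion : DescendsAffine.{u} @IsImmersion @LocallyOfFiniteType := by
  intro I _ _ D c hc _ _ i T a _ _ ha h
  have : LocallyOfFiniteType a := ha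
  have : IsAffineHom (c.π.app i) := isAffineHom_π_app D c hc i
  have : CompactSpace ↥(pullback a (c.π.app i)) :=
    QuasiCompact.compactSpace_of_compactSpace (pullback.fst a (c.π.app i))
  have : IsImmersion (pullback.snd a (c.π.app i)) := h
  let p : pullback a (c.π.app i) ⟶ c.pt := pullback.snd a (c.π.app i)
  -- a quasi-compact open in which the image is closed
  obtain ⟨U, hU, hUc, hpU, hUp⟩ : ∃ U : Set c.pt, IsOpen U ∧ IsCompact U ∧ Set.range p ⊆ U ∧
      U ⊆ (p.coborderRange : Set c.pt) := by
    have hrange : Set.range p ⊆ (p.coborderRange : Set c.pt) := subset_coborder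
    choose V hV hxV hVle using fun y : Set.range p => exists_isAffineOpen_mem_and_subset (hrange y.2)
    obtain ⟨t, ht⟩ := (isCompact_range p.continuous).elim_finite_subcover (fun y => (V y : Set c.pt))
      (fun y => (V y).2) fun y hy => Set.mem_iUnion.mpr ⟨⟨y, hy⟩, hxV ⟨y, hy⟩⟩
    exact ⟨_, isOpen_biUnion fun y _ => (V y).2, t.finite_toSet.isCompact_biUnion fun y _ => (hV y).isCompact,
      ht, Set.iUnion₂_subset fun y _ => hVle y⟩
  obtain ⟨j, φ, W, hW, hW', e⟩ := exists_isCompact_isOpen_preimage_eq hc i hU hUc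
  let k₀ : Over i := Over.mk φ
  let F : Set ((pbDiagram D i a).obj k₀) := pullback.snd a (D.map φ) ⁻¹' W
  have hF : QCImage (Set.univ ∩ Fᶜ : Set ((pbDiagram D i a).obj k₀)) :=
    (qcImage_of_isOpen_isCompact isOpen_univ isCompact_univ).inter_isClosed
      (hW.preimage (pullback.snd a (D.map φ)).continuous).isClosed_compl
  obtain ⟨m, ψ, hm⟩ := hF.exists_preimage_subset (isLimitPbCone D i a hc) (by
    intro x _
    have hx : p x ∈ c.π.app j ⁻¹' W := e.symm ▸ hpU ⟨x, rfl⟩
    have h₁ : (pbCone D c i a).π.app k₀ ≫ pullback.snd a (D.map φ) = p ≫ c.π.app j := by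
      simp [k₀, p]
    change ((pbCone D c i a).π.app k₀ ≫ pullback.snd a (D.map φ)) x ∈ W
    rw [h₁]; exact hx)
  have hmj : ψ.left ≫ φ = m.hom := Over.w ψ
  -- over the stage `m` the image lies in the open `W'`
  let W' : (D.obj m.left).Opens := D.map ψ.left ⁻¹ᵁ ⟨W, hW⟩
  have hW'c : IsCompact (W' : Set (D.obj m.left)) := QuasiCompact.isCompact_preimage _ hW hW'
  have : CompactSpace ↥(W' : Scheme.{u}) := isCompact_iff_compactSpace.mp hW'c
  have : QuasiSeparatedSpace ↥(W' : Scheme.{u}) :=
    (isQuasiSeparated_iff_quasiSeparatedSpace _ W'.2).mp (.of_quasiSeparatedSpace _)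
  let b : pullback a (D.map m.hom) ⟶ D.obj m.left := pullback.snd a (D.map m.hom)
  have hb : Set.range b ⊆ (W' : Set (D.obj m.left)) := by
    rintro _ ⟨x, rfl⟩
    have := hm (Set.mem_univ x)
    show D.map ψ.left (b x) ∈ W
    rw [← Scheme.Hom.comp_apply, show b ≫ D.map ψ.left = (pbDiagram D i a).map ψ ≫
      pullback.snd a (D.map φ) by simp [b, k₀]]
    exact this
  let b' : pullback a (D.map m.hom) ⟶ W' := IsOpenImmersion.lift W'.ι b (by simpa using hb)
  have hb' : b' ≫ W'.ι = b := IsOpenImmersion.lift_fac _ _ _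
  have : CompactSpace ↥(pullback a (D.map m.hom)) :=
    QuasiCompact.compactSpace_of_compactSpace (pullback.fst a (D.map m.hom))
  have : QuasiSeparatedSpace ↥(pullback a (D.map m.hom)) :=
    quasiSeparatedSpace_of_quasiSeparated (pullback.fst a (D.map m.hom))
  have : LocallyOfFiniteType b' := by
    have : LocallyOfFiniteType (b' ≫ W'.ι) := hb' ▸ inferInstanceAs (LocallyOfFiniteType b)
    exact locallyOfFiniteType_of_comp b' W'.ι
  let e₀ : Over m.left := Over.mk (𝟙 m.left)
  have : IsIso ((pbDiagram D m.left W'.ι).obj e₀ |> fun _ => pullback.fst W'.ι (D.map (𝟙 m.left))) :=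
    inferInstanceAs (IsIso (pullback.fst W'.ι (D.map (𝟙 m.left))))
  let ι₀ : (pbDiagram D m.left W'.ι).obj e₀ ⟶ W' := pullback.fst W'.ι (D.map (𝟙 m.left))
  have : IsIso ι₀ := inferInstanceAs (IsIso (pullback.fst W'.ι (D.map (𝟙 m.left))))
  have : CompactSpace ↥((pbDiagram D m.left W'.ι).obj e₀) :=
    QuasiCompact.compactSpace_of_compactSpace ι₀
  have : QuasiSeparatedSpace ↥((pbDiagram D m.left W'.ι).obj e₀) :=
    quasiSeparatedSpace_of_quasiSeparated ι₀
  let b₀ := pullback.snd b' ι₀
  have : CompactSpace ↥(pullback b' ι₀) :=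
    QuasiCompact.compactSpace_of_compactSpace (pullback.fst b' ι₀)
  have : QuasiSeparatedSpace ↥(pullback b' ι₀) :=
    quasiSeparatedSpace_of_quasiSeparated (pullback.fst b' ι₀)
  -- the limit of the restriction is a closed immersion
  let q : pullback W'.ι (c.π.app m.left) ⟶ c.pt := pullback.snd W'.ι (c.π.app m.left)
  have hq : Set.range q = U := by
    rw [Scheme.Pullback.range_snd, Scheme.Opens.range_ι, ← e]
    show c.π.app m.left ⁻¹' (D.map ψ.left ⁻¹' W) = _
    rw [← Set.preimage_comp, ← TopCat.coe_comp, ← Scheme.Hom.comp_base, c.w]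
    rfl
  obtain ⟨n, χ, hn⟩ := descendsAffine_isClosedImmersion.descends (Over m.left)
    (pbDiagram D m.left W'.ι) _ (isLimitPbCone D m.left W'.ι hc) e₀ b₀
    (inferInstanceAs (LocallyOfFiniteType b₀)) <| by
      refine (prop_iff_of_isPullback
        ((IsPullback.of_hasPullback (pullback.snd b' ι₀) _).paste_horiz
          (IsPullback.of_hasPullback b' ι₀))).mpr ?_ |> fun h ↦ h
      refine prop_snd_of_fac (b := pullback.fst W'.ι (c.π.app m.left)) (𝟙 _)
        (by simp [ι₀, e₀, pbCone]) ?_
      -- the base change of `b'` followed by `q` is `p`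
      let r := pullback.snd b' (pullback.fst W'.ι (c.π.app m.left))
      have sq : IsPullback (pullback.fst b' (pullback.fst W'.ι (c.π.app m.left)) ≫
          pullback.fst a (D.map m.hom)) (r ≫ q) a (c.π.app i) := by
        have h₁ := (IsPullback.of_hasPullback b' (pullback.fst W'.ι (c.π.app m.left))).paste_vert
          (IsPullback.of_hasPullback W'.ι (c.π.app m.left))
        rw [hb'] at h₁
        have h₂ := h₁.paste_horiz (IsPullback.of_hasPullback a (D.map m.hom))
        rwa [c.w] at h₂
      have hrp : r ≫ q = sq.isoPullback.hom ≫ p := sq.isoPullback_hom_snd.symm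
      have : IsImmersion (r ≫ q) := by
        rw [hrp]
        infer_instance
      have : IsImmersion r := IsImmersion.of_comp r q
      refine IsClosedImmersion.of_isPreimmersion r ?_
      have hrq : q ⁻¹' Set.range (r ≫ q) = Set.range r := by
        rw [Scheme.Hom.comp_base, TopCat.coe_comp, Set.range_comp]
        exact Set.preimage_image_eq _ q.isOpenEmbedding.injective
      rw [← hrq]
      have hrange : Set.range (r ≫ q) = Set.range p := by
        rw [hrp, Scheme.Hom.comp_base, TopCat.coe_comp]
        exact (sq.isoPullback.hom.surjective).range_comp _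
      rw [hrange]
      have hcl : closure (Set.range p) ∩ (p.coborderRange : Set c.pt) = Set.range p :=
        closure_inter_coborder
      have : q ⁻¹' Set.range p = q ⁻¹' closure (Set.range p) := by
        ext x
        refine ⟨fun hx => subset_closure hx, fun hx => hcl.subset ⟨hx, hUp (hq.subset ⟨x, rfl⟩)⟩⟩
      rw [this]
      exact isClosed_closure.preimage q.continuous
  refine ⟨n.left, n.hom ≫ m.hom, ?_⟩
  -- conclude
  have hχ : (pbDiagram D m.left W'.ι).map χ ≫ ι₀ = pullback.fst W'.ι (D.map n.hom) := by
    simp [ι₀, e₀, pbDiagram]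
  let r := pullback.snd b₀ ((pbDiagram D m.left W'.ι).map χ)
  have : IsClosedImmersion r := hn
  have h₀ := (IsPullback.of_hasPullback b₀ ((pbDiagram D m.left W'.ι).map χ)).paste_horiz
    (IsPullback.of_hasPullback b' ι₀)
  rw [hχ] at h₀
  have h₁ := h₀.paste_vert (IsPullback.of_hasPullback W'.ι (D.map n.hom))
  rw [hb'] at h₁
  have h₂ := h₁.paste_horiz (IsPullback.of_hasPullback a (D.map m.hom))
  rw [← D.map_comp] at h₂
  exact (prop_iff_of_isPullback h₂).mp inferInstance

end Groth.Agent.H06EGA8
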