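import Groth.Agent.H06EGA8.Descend
import Groth.Agent.H02CA.ColimDescent
import Mathlib.AlgebraicGeometry.Morphisms.Etale
import Mathlib.AlgebraicGeometry.Morphisms.Smooth
import Mathlib.AlgebraicGeometry.Morphisms.FormallyUnramified

/-!
# Smooth, étale and unramified morphisms descend to a stage (EGA IV 17.7.8)
-/

set_option autoImplicit false
set_option backward.isDefEq.respectTransparency false
set_option backward.defeqAttrib.useBackward true
set_option linter.style.haveILetI false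

universe u

open CategoryTheory Limits AlgebraicGeometry MorphismProperty TopologicalSpace

namespace Groth.Agent.H06EGA8

open H7Lim

open TensorProduct in
/-- The sections of an affine base change are the tensor product. -/
theorem appTop_snd_iff {Q : ∀ {R S : Type u} [CommRing R] [CommRing S], (R →+* S) → Prop}
    (hQ : RingHom.RespectsIso Q) {S T B : Scheme.{u}} (a : T ⟶ S) (b : B ⟶ S) [IsAffine S]
    [IsAffine T] [IsAffine B] :
    letI := b.appTop.hom.toAlgebra
    letI := a.appTop.hom.toAlgebra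
    Q (pullback.snd a b).appTop.hom ↔
      Q (algebraMap Γ(B, ⊤) (Γ(B, ⊤) ⊗[Γ(S, ⊤)] Γ(T, ⊤))) := by
  letI := b.appTop.hom.toAlgebra
  letI := a.appTop.hom.toAlgebra
  have h : IsPushout (CommRingCat.ofHom (algebraMap Γ(S, ⊤) Γ(B, ⊤)))
      (CommRingCat.ofHom (algebraMap Γ(S, ⊤) Γ(T, ⊤))) (pullback.snd a b).appTop
      (pullback.fst a b).appTop :=
    (isPushout_appTop_of_isPullback (IsPullback.of_hasPullback a b)).flip
  have h' := CommRingCat.isPushout_tensorProduct Γ(S, ⊤) Γ(B, ⊤) Γ(T, ⊤)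
  let e := h.isoPushout ≪≫ h'.isoPushout.symm
  have he : (pullback.snd a b).appTop ≫ e.hom =
      CommRingCat.ofHom (Algebra.TensorProduct.includeLeftRingHom : Γ(B, ⊤) →+* _) := by
    simp [e]
  rw [← hQ.cancel_right_isIso (pullback.snd a b).appTop e.hom]
  exact iff_of_eq (congrArg Q (congrArg CommRingCat.Hom.hom he))

variable {ι : Type u} {A₀ : Type u} [CommRing A₀] {G : ι → Type u} [∀ i, CommRing (G i)]
  [∀ i, Algebra A₀ (G i)] {A : Type u} [CommRing A] [Algebra A₀ A] {g : ∀ i, G i →ₐ[A₀] A}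
  (hG : H02CA.ColimTensor.Approx g G A (fun i ↦ g i) (fun φ ↦ φ.1))
  (C : Type u) [CommRing C] [Algebra A₀ C]

open TensorProduct in
theorem baseChange_lid {Q : ∀ {R S : Type u} [CommRing R] [CommRing S], (R →+* S) → Prop}
    (hQ : RingHom.RespectsIso Q) (R : Type u) [CommRing R] [Algebra A₀ R] :
    Q (algebraMap R (R ⊗[A₀] C)) ↔ Q (algebraMap (A₀ ⊗[A₀] R) ((A₀ ⊗[A₀] R) ⊗[A₀] C)) := by
  let e₁ : A₀ ⊗[A₀] R ≃ₐ[A₀] R := Algebra.TensorProduct.lid A₀ R
  let e₂ : (A₀ ⊗[A₀] R) ⊗[A₀] C ≃ₐ[A₀] R ⊗[A₀] C :=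
    Algebra.TensorProduct.congr e₁ AlgEquiv.refl
  constructor
  · intro h
    have := hQ.1 (T := (A₀ ⊗[A₀] R) ⊗[A₀] C) _ e₂.symm.toRingEquiv
      (hQ.2 (R := A₀ ⊗[A₀] R) _ e₁.toRingEquiv h)
    convert this using 1
    refine RingHom.ext fun x => ?_
    show x ⊗ₜ[A₀] (1 : C) = e₂.symm (e₁ x ⊗ₜ[A₀] (1 : C))
    simp [e₂, Algebra.TensorProduct.congr_symm_apply]
  · intro h
    have := hQ.1 (T := R ⊗[A₀] C) _ e₂.toRingEquiv (hQ.2 (R := R) _ e₁.symm.toRingEquiv h)
    convert this using 1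
    refine RingHom.ext fun x => ?_
    show x ⊗ₜ[A₀] (1 : C) = e₂ (e₁.symm x ⊗ₜ[A₀] (1 : C))
    simp [e₂]

include hG in
open TensorProduct in
theorem exists_smooth_stage [Algebra.FinitePresentation A₀ C] (i₀ : ι)
    (h : (algebraMap A (A ⊗[A₀] C)).Smooth) :
    ∃ (j : ι) (_ : H02CA.ColimTensor.Hom g i₀ j), (algebraMap (G j) (G j ⊗[A₀] C)).Smooth := by
  obtain ⟨j, φ, hj⟩ := H02CA.ColimDescent.smooth_stage (B₀ := A₀) hG C
    (RingHom.smooth_algebraMap.mp
      ((baseChange_lid C RingHom.Smooth.respectsIso A).mp h)).formallySmooth i₀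
  exact ⟨j, φ, (baseChange_lid C RingHom.Smooth.respectsIso (G j)).mpr (RingHom.smooth_algebraMap.mpr hj)⟩

include hG in
open TensorProduct in
theorem exists_etale_stage [Algebra.FinitePresentation A₀ C]
    (h : (algebraMap A (A ⊗[A₀] C)).Etale) :
    ∃ j : ι, (algebraMap (G j) (G j ⊗[A₀] C)).Etale := by
  obtain ⟨j, hj⟩ := H02CA.ColimDescent.etale_stage (B₀ := A₀) hG C
    (RingHom.etale_algebraMap.mp ((baseChange_lid C RingHom.Etale.respectsIso A).mp h))
  exact ⟨j, (baseChange_lid C RingHom.Etale.respectsIso (G j)).mpr (RingHom.etale_algebraMap.mpr hj)⟩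

section diagram

variable {I : Type u} [Category.{u} I] [IsCofiltered I] (D : I ⥤ Scheme.{u}) (c : Cone D)
  [∀ j, IsAffine (D.obj j)] (i : I)

noncomputable local instance algStage (k : Over i) : Algebra Γ(D.obj i, ⊤) Γ(D.obj k.left, ⊤) :=
  (D.map k.hom).appTop.hom.toAlgebra

noncomputable local instance algPt : Algebra Γ(D.obj i, ⊤) Γ(c.pt, ⊤) :=
  (c.π.app i).appTop.hom.toAlgebra

/-- The maps to the sections of the limit. -/
noncomputable def toPt (k : Over i) : Γ(D.obj k.left, ⊤) →ₐ[Γ(D.obj i, ⊤)] Γ(c.pt, ⊤) :=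
  { (c.π.app k.left).appTop.hom with
    commutes' := fun r => by
      show (c.π.app k.left).appTop ((D.map k.hom).appTop r) = (c.π.app i).appTop r
      rw [← CommRingCat.comp_apply, ← Scheme.Hom.comp_appTop, c.w]
      rfl }

/-- The sections of an affine limit as an elementwise colimit. -/
theorem approx_sections (hc : IsLimit c) :
    H02CA.ColimTensor.Approx (toPt D c i) (fun k : Over i => Γ(D.obj k.left, ⊤)) Γ(c.pt, ⊤)
      (fun k ↦ toPt D c i k) (fun φ ↦ φ.1) := by
  have hc' := (Functor.Initial.isLimitWhiskerEquiv (Over.forget i) c).symm hc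
  have (k : Over i) : IsAffine ((Over.forget i ⋙ D).obj k) :=
    inferInstanceAs (IsAffine (D.obj k.left))
  let hom {k l : Over i} (ψ : l ⟶ k) : H02CA.ColimTensor.Hom (toPt D c i) k l :=
    ⟨{ (D.map ψ.left).appTop.hom with
        commutes' := fun r => by
          show (D.map ψ.left).appTop ((D.map k.hom).appTop r) = (D.map l.hom).appTop r
          rw [← CommRingCat.comp_apply, ← Scheme.Hom.comp_appTop, ← D.map_comp, Over.w ψ] },
      AlgHom.ext fun x => by
        show (c.π.app l.left).appTop ((D.map ψ.left).appTop x) = (c.π.app k.left).appTop x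
        rw [← CommRingCat.comp_apply, ← Scheme.Hom.comp_appTop, c.w]
        rfl⟩
  refine ⟨fun φ x => AlgHom.congr_fun φ.2 x, fun _ _ _ => rfl, fun k l => ?_, ⟨Over.mk (𝟙 i)⟩,
    fun y => ?_, fun k x y h => ?_⟩
  · obtain ⟨m, f, g, -⟩ := IsCofilteredOrEmpty.cone_objs k l
    exact ⟨m, ⟨hom f⟩, ⟨hom g⟩⟩
  · obtain ⟨k, t, ht⟩ := exists_appTop_π_eq_of_isAffine_of_isLimit _ _ hc' y
    exact ⟨k, t, ht⟩
  · obtain ⟨m, f, hf⟩ := exists_appTop_map_eq_zero_of_isAffine_of_isLimit (Over.forget i ⋙ D)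
      (c.whisker (Over.forget i)) hc' k (x - y)
      (by
        show (c.π.app k.left).appTop (x - y) = 0
        rw [map_sub, sub_eq_zero]
        exact h)
    refine ⟨m, hom f, ?_⟩
    rw [map_sub, sub_eq_zero] at hf
    exact hf

end diagram

/-- Descent from affine sources. -/
theorem descendsAffine_of_affineSource {P : MorphismProperty Scheme.{u}}
    [IsZariskiLocalAtSource P] [P.IsStableUnderBaseChange]
    (hP : ∀ (J : Type u) [Category.{u} J] [IsCofiltered J] (E : J ⥤ Scheme.{u}) (d : Cone E)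
      (_ : IsLimit d) [∀ (i j : J) (f : i ⟶ j), IsAffineHom (E.map f)] [∀ j, IsAffine (E.obj j)]
      (i : J) {T : Scheme.{u}} (a : T ⟶ E.obj i) [IsAffine T] [LocallyOfFinitePresentation a],
      P (pullback.snd a (d.π.app i)) → ∃ (j : J) (φ : j ⟶ i), P (pullback.snd a (E.map φ))) :
    DescendsAffine P @LocallyOfFinitePresentation := by
  intro J _ _ E d hd _ _ i T a _ _ ha h
  have : LocallyOfFinitePresentation a := ha
  let 𝒰 := T.affineCover.finiteSubcover
  have (k : 𝒰.I₀) : IsAffine (𝒰.X k) := inferInstanceAs (IsAffine (T.affineCover.X _))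
  have sq {B : Scheme.{u}} (b : B ⟶ E.obj i) (k : 𝒰.I₀) :
      IsPullback (pullback.fst (pullback.fst a b) (𝒰.f k) ≫ pullback.snd a b)
        (pullback.snd (pullback.fst a b) (𝒰.f k)) b (𝒰.f k ≫ a) :=
    (IsPullback.of_hasPullback (pullback.fst a b) (𝒰.f k)).paste_horiz
      (IsPullback.of_hasPullback a b).flip
  have key {B : Scheme.{u}} (b : B ⟶ E.obj i) :
      P (pullback.snd a b) ↔ ∀ k : 𝒰.I₀, P (pullback.snd (𝒰.f k ≫ a) b) := by
    rw [IsZariskiLocalAtSource.iff_of_openCover (P := P) (𝒰.pullback₁ (pullback.fst a b))]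
    exact forall_congr' fun k => prop_iff_of_isPullback (sq b k).flip
  obtain ⟨j, φ, hj⟩ := exists_common_stage i
    (fun (k : 𝒰.I₀) j φ ↦ P (pullback.snd (𝒰.f k ≫ a) (E.map φ)))
    (fun k => hP J E d hd i (𝒰.f k ≫ a) ((key _).mp h k))
    fun k j j' φ ψ h ↦ prop_snd_of_fac (E.map ψ) (by rw [E.map_comp]) h
  exact ⟨j, φ, (key _).mpr hj⟩

/-- Smoothness descends. -/
theorem descendsAffine_smooth : DescendsAffine.{u} @Smooth @LocallyOfFinitePresentation := by
  refine descendsAffine_of_affineSource ?_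
  intro J _ _ E d hd _ _ i T a _ _ h
  have : IsAffineHom (d.π.app i) := isAffineHom_π_app E d hd i
  have : IsAffine (((Functor.const J).obj d.pt).obj i) := isAffine_of_isAffineHom (d.π.app i)
  have : IsAffine d.pt := this
  letI := a.appTop.hom.toAlgebra
  letI := algPt E d i
  letI := fun k => algStage E i k
  haveI : Algebra.FinitePresentation Γ(E.obj i, ⊤) Γ(T, ⊤) :=
    HasRingHomProperty.appTop (P := @LocallyOfFinitePresentation) a ‹_›
  obtain ⟨k, -, hk⟩ := exists_smooth_stage (approx_sections E d i hd) Γ(T, ⊤) (Over.mk (𝟙 i))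
    ((appTop_snd_iff RingHom.Smooth.respectsIso a (d.π.app i)).mp
      ((HasRingHomProperty.iff_of_isAffine (P := @Smooth)).mp h))
  exact ⟨k.left, k.hom, (HasRingHomProperty.iff_of_isAffine (P := @Smooth)).mpr
    ((appTop_snd_iff RingHom.Smooth.respectsIso a (E.map k.hom)).mpr hk)⟩

/-- Being étale descends. -/
theorem descendsAffine_etale : DescendsAffine.{u} @Etale @LocallyOfFinitePresentation := by
  refine descendsAffine_of_affineSource ?_
  intro J _ _ E d hd _ _ i T a _ _ h
  have : IsAffineHom (d.π.app i) := isAffineHom_π_app E d hd i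
  have : IsAffine (((Functor.const J).obj d.pt).obj i) := isAffine_of_isAffineHom (d.π.app i)
  have : IsAffine d.pt := this
  letI := a.appTop.hom.toAlgebra
  letI := algPt E d i
  letI := fun k => algStage E i k
  haveI : Algebra.FinitePresentation Γ(E.obj i, ⊤) Γ(T, ⊤) :=
    HasRingHomProperty.appTop (P := @LocallyOfFinitePresentation) a ‹_›
  obtain ⟨k, hk⟩ := exists_etale_stage (approx_sections E d i hd) Γ(T, ⊤)
    ((appTop_snd_iff RingHom.Etale.respectsIso a (d.π.app i)).mp
      ((HasRingHomProperty.iff_of_isAffine (P := @Etale)).mp h))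
  exact ⟨k.left, k.hom, (HasRingHomProperty.iff_of_isAffine (P := @Etale)).mpr
    ((appTop_snd_iff RingHom.Etale.respectsIso a (E.map k.hom)).mpr hk)⟩

end Groth.Agent.H06EGA8
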