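import Groth.Agent.H06EGA8.Descend
import Mathlib.AlgebraicGeometry.ZariskisMainTheorem
import Mathlib.AlgebraicGeometry.Morphisms.UniversallyOpen

/-!
# Local quasi-finiteness descends to a stage
-/

set_option autoImplicit false
set_option backward.isDefEq.respectTransparency false
set_option backward.defeqAttrib.useBackward true

universe u

open CategoryTheory Limits AlgebraicGeometry MorphismProperty TopologicalSpace Topology

namespace Groth.Agent.H06EGA8

open H7Lim

theorem quasiFiniteAt_of_isOpen_singleton {T S : Scheme.{u}} (a : T ⟶ S) [LocallyOfFiniteType a]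
    (s : S) (z : a.fiber s) (h : IsOpen {z}) : a.QuasiFiniteAt (a.fiberι s z) := by
  obtain ⟨x, hx⟩ : ∃ x, a.fiberι s z = x := ⟨_, rfl⟩
  have hs : a x = s := by
    rw [← hx]
    exact (a.range_fiberι s).subset ⟨z, rfl⟩
  subst hs
  have : z = a.asFiber x := (a.fiberι (a x)).isEmbedding.injective (hx.trans (a.fiberι_asFiber x).symm)
  rw [hx]
  exact Scheme.Hom.quasiFiniteAt_iff_isOpen_singleton_asFiber.mpr (this ▸ h)

/-- Quasi-finiteness at a point descends along base change. -/
theorem quasiFiniteAt_fst {T S S' : Scheme.{u}} (a : T ⟶ S) (b : S' ⟶ S) [LocallyOfFiniteType a]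
    (x' : ↥(pullback a b)) (h : (pullback.snd a b).QuasiFiniteAt x') :
    a.QuasiFiniteAt (pullback.fst a b x') := by
  set s' := pullback.snd a b x' with hs'
  have hsq := isPullback_fiberToSpecResidueField_of_isPullback (IsPullback.of_hasPullback a b) s'
  set φ : (pullback.snd a b).fiber s' ⟶ a.fiber (b s') := pullback.map _ _ _ _ (pullback.fst a b)
    (Spec.map (b.residueFieldMap s')) b (IsPullback.of_hasPullback a b).w.symm (by simp)
  have : UniversallyOpen φ := MorphismProperty.of_isPullback hsq.flip inferInstance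
  have hopen : IsOpen {φ ((pullback.snd a b).asFiber x')} := by
    rw [← Set.image_singleton]
    exact φ.isOpenMap _ (Scheme.Hom.quasiFiniteAt_iff_isOpen_singleton_asFiber.mp h)
  have hφ : φ ≫ a.fiberι (b s') = (pullback.snd a b).fiberι s' ≫ pullback.fst a b :=
    pullback.lift_fst _ _ _
  have := quasiFiniteAt_of_isOpen_singleton a _ _ hopen
  rwa [← Scheme.Hom.comp_apply, hφ, Scheme.Hom.comp_apply, Scheme.Hom.fiberι_asFiber] at this

/-- Local quasi-finiteness descends. -/
theorem descendsAffine_locallyQuasiFinite :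
    DescendsAffine.{u} @LocallyQuasiFinite @LocallyOfFiniteType := by
  intro I _ _ D c hc _ _ i T a _ _ ha h
  have : LocallyOfFiniteType a := ha
  have : LocallyQuasiFinite (pullback.snd a (c.π.app i)) := h
  let k₀ : Over i := Over.mk (𝟙 i)
  let F : Set ((pbDiagram D i a).obj k₀) :=
    pullback.fst a (D.map (𝟙 i)) ⁻¹' (a.quasiFiniteLocus : Set T)
  have : CompactSpace ↥((pbDiagram D i a).obj k₀) :=
    QuasiCompact.compactSpace_of_compactSpace (pullback.fst a (D.map (𝟙 i)))
  have hF : QCImage (Set.univ ∩ Fᶜ : Set ((pbDiagram D i a).obj k₀)) :=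
    (qcImage_of_isOpen_isCompact isOpen_univ isCompact_univ).inter_isClosed
      (a.quasiFiniteLocus.2.preimage (pullback.fst a (D.map (𝟙 i))).continuous).isClosed_compl
  obtain ⟨m, ψ, hm⟩ := hF.exists_preimage_subset (isLimitPbCone D i a hc) (by
    intro x _
    have h₁ : (pbCone D c i a).π.app k₀ ≫ pullback.fst a (D.map (𝟙 i)) =
        pullback.fst a (c.π.app i) := by simp [k₀]
    change ((pbCone D c i a).π.app k₀ ≫ pullback.fst a (D.map (𝟙 i))) x ∈ a.quasiFiniteLocus
    rw [h₁]
    exact quasiFiniteAt_fst a _ _ ((pullback.snd a (c.π.app i)).quasiFiniteAt x))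
  refine ⟨m.left, m.hom, ?_⟩
  let V := a.quasiFiniteLocus
  have hle : pullback.fst a (D.map m.hom) ⁻¹ᵁ V = ⊤ := by
    refine top_le_iff.mp fun x _ => ?_
    have h₁ : (pbDiagram D i a).map ψ ≫ pullback.fst a (D.map (𝟙 i)) =
        pullback.fst a (D.map m.hom) := by simp [k₀]
    change pullback.fst a (D.map m.hom) x ∈ V
    rw [← h₁]
    exact hm (Set.mem_univ x)
  have hsub : Set.range (pullback.fst a (D.map m.hom)) ⊆ Set.range V.ι := by
    rw [Scheme.Opens.range_ι]
    rintro _ ⟨x, rfl⟩
    exact (hle.ge (Set.mem_univ x) :)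
  let l := IsOpenImmersion.lift V.ι (pullback.fst a (D.map m.hom)) hsub
  have top : IsPullback l (𝟙 _) V.ι (pullback.fst a (D.map m.hom)) :=
    ⟨⟨by rw [IsOpenImmersion.lift_fac, Category.id_comp]⟩,
      ⟨PullbackCone.IsLimit.mk _ (fun t => t.snd) (fun t => by
        rw [← cancel_mono V.ι, Category.assoc, IsOpenImmersion.lift_fac]
        exact t.condition.symm) (fun t => Category.comp_id _)
        fun t u _ h₂ => by simpa using h₂⟩⟩
  have sq : IsPullback l (pullback.snd a (D.map m.hom)) (V.ι ≫ a) (D.map m.hom) := by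
    simpa using top.paste_vert (IsPullback.of_hasPullback a (D.map m.hom))
  exact MorphismProperty.of_isPullback sq (inferInstanceAs (LocallyQuasiFinite (a.quasiFiniteLocus.ι ≫ a)))

end Groth.Agent.H06EGA8
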