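import Groth.Agent.H06EGA8.DescendSmooth
import Groth.Agent.H7Lim.DescendUnramified

/-!
# Descent of properties local on the source and the target, without separation hypotheses
-/

set_option autoImplicit false
set_option backward.isDefEq.respectTransparency false
set_option backward.defeqAttrib.useBackward true

universe u

open CategoryTheory Limits AlgebraicGeometry MorphismProperty TopologicalSpace

namespace Groth.Agent.H06EGA8

open H7Lim

/-- Pullback squares can be composed with monomorphisms. -/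
theorem isPullback_comp_mono {P X Y W Z : Scheme.{u}} {a : P ⟶ X} {b : P ⟶ Y} {f : X ⟶ W}
    {g : Y ⟶ W} (h : IsPullback a b f g) (i : W ⟶ Z) [Mono i] :
    IsPullback a b (f ≫ i) (g ≫ i) :=
  IsPullback.of_isLimit (PullbackCone.isLimitOfCompMono f g i _ h.isLimit)

variable {I : Type u} [Category.{u} I] [IsCofiltered I] {D : I ⥤ Scheme.{u}} {c : Cone D}
  [∀ (i j : I) (f : i ⟶ j), IsAffineHom (D.map f)] (hc : IsLimit c)

omit [IsCofiltered I] [∀ (i j : I) (f : i ⟶ j), IsAffineHom (D.map f)] in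
/-- Descended properties hold in the limit. -/
theorem prop_of_stage {P : MorphismProperty Scheme.{u}} [P.IsStableUnderBaseChange] {i₀ : I}
    {X₀ Y₀ : Scheme.{u}} {f₀ : X₀ ⟶ Y₀} {g₀ : Y₀ ⟶ D.obj i₀}
    {X Y : Scheme.{u}} {f : X ⟶ Y} {g : Y ⟶ c.pt} {qY : Y ⟶ Y₀} {qX : X ⟶ X₀}
    (hY : IsPullback qY g g₀ (c.π.app i₀)) (hX : IsPullback qX f f₀ qY)
    {j : I} {φ : j ⟶ i₀} {Xj Yj : Scheme.{u}} {fj : Xj ⟶ Yj} {gj : Yj ⟶ D.obj j} {pY : Yj ⟶ Y₀}
    {pX : Xj ⟶ X₀} (hYj : IsPullback pY gj g₀ (D.map φ)) (hXj : IsPullback pX fj f₀ pY)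
    (h : P fj) : P f :=
  (prop_iff_of_isPullback hX).mpr (prop_snd_of_fac (b := pY)
    (hYj.lift qY (g ≫ c.π.app j) (by rw [hY.w, Category.assoc, c.w])) (hYj.lift_fst _ _ _)
    ((prop_iff_of_isPullback hXj).mp h))

variable {P : MorphismProperty Scheme.{u}} [IsZariskiLocalAtTarget P] [IsZariskiLocalAtSource P]
  [P.IsStableUnderBaseChange]

include hc in
/-- Descent along `g₀ : Y₀ ⟶ D i₀` for `X₀` quasi-compact. -/
theorem exists_descend_square_of_compact (hP : DescendsAffine P @LocallyOfFinitePresentation)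
    (hcomp : ∀ {A B C : Scheme.{u}} (u : A ⟶ B) (v : B ⟶ C) [IsOpenImmersion v], P u → P (u ≫ v))
    (i₀ : I) {X₀ Y₀ : Scheme.{u}} (f₀ : X₀ ⟶ Y₀) (g₀ : Y₀ ⟶ D.obj i₀)
    [LocallyOfFinitePresentation f₀] [CompactSpace X₀]
    {X Y : Scheme.{u}} {f : X ⟶ Y} {g : Y ⟶ c.pt} {qY : Y ⟶ Y₀} {qX : X ⟶ X₀}
    (hY : IsPullback qY g g₀ (c.π.app i₀)) (hX : IsPullback qX f f₀ qY) (h : P f) :
    ∃ (j : I) (φ : j ⟶ i₀) (Xj Yj : Scheme.{u}) (fj : Xj ⟶ Yj) (gj : Yj ⟶ D.obj j)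
      (pY : Yj ⟶ Y₀) (pX : Xj ⟶ X₀),
      IsPullback pY gj g₀ (D.map φ) ∧ IsPullback pX fj f₀ pY ∧ P fj := by
  have hU : ∀ x : X₀, ∃ (U : X₀.Opens) (V : Y₀.Opens), IsAffineOpen U ∧ IsAffineOpen V ∧
      U ≤ f₀ ⁻¹ᵁ V ∧ x ∈ U := by
    intro x
    obtain ⟨V, hV, hxV, -⟩ :=
      exists_isAffineOpen_mem_and_subset (x := f₀ x) (U := (⊤ : Y₀.Opens)) trivial
    obtain ⟨U, hU, hxU, hle⟩ := exists_isAffineOpen_mem_and_subset (x := x) (U := f₀ ⁻¹ᵁ V) hxV
    exact ⟨U, V, hU, hV, hle, hxU⟩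
  choose U V hU hV hle hxU using hU
  obtain ⟨t, ht⟩ := CompactSpace.elim_nhds_subcover (fun x => (U x : Set X₀))
    fun x => (U x).2.mem_nhds (hxU x)
  let fU (x : X₀) : (U x : Scheme.{u}) ⟶ V x := f₀.resLE (V x) (U x) (hle x)
  have key (x : t) : ∃ (j : I) (φ : j ⟶ i₀),
      P (pullback.snd (fU x) (pullback.fst ((V x).ι ≫ g₀) (D.map φ))) := by
    have : IsAffine (U x : Scheme.{u}) := hU x
    have : IsAffine (V x : Scheme.{u}) := hV x
    have : LocallyOfFinitePresentation (fU x) := inferInstance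
    let qY' := pullback.fst ((V x).ι ≫ g₀) (c.π.app i₀)
    have hsq : IsPullback (pullback.fst (fU x) qY') (pullback.snd (fU x) qY')
        ((U x).ι ≫ f₀) (qY' ≫ (V x).ι) := by
      have := isPullback_comp_mono (IsPullback.of_hasPullback (fU x) qY') (V x).ι
      rwa [Scheme.Hom.resLE_comp_ι] at this
    have hP' : P (pullback.snd (fU x) qY') := by
      refine (prop_iff_of_isPullback hsq).mpr ?_
      refine prop_snd_of_fac (b := qY) (hY.lift (qY' ≫ (V x).ι)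
        (pullback.snd ((V x).ι ≫ g₀) (c.π.app i₀)) (by
          rw [Category.assoc]; exact pullback.condition)) (hY.lift_fst _ _ _) ?_
      refine (prop_iff_of_isPullback ((IsPullback.of_hasPullback (pullback.fst f₀ qY)
        (U x).ι).flip.paste_vert (IsPullback.of_hasPullback f₀ qY))).mp ?_
      exact IsZariskiLocalAtSource.comp ((prop_iff_of_isPullback hX).mp h) _
    obtain ⟨j, φ, Xj, Yj, fj, gj, pY, pX, hYj, hXj, hj⟩ :=
      (exists_descend_square_iff hc (P := P) (Q := @LocallyOfFinitePresentation) hP i₀ (fU x)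
        ((V x).ι ≫ g₀) (IsPullback.of_hasPullback _ (c.π.app i₀))
        (IsPullback.of_hasPullback (fU x) qY') ‹_›).mp hP'
    exact ⟨j, φ, prop_snd_of_fac hYj.isoPullback.inv (hYj.isoPullback_inv_fst)
      ((prop_iff_of_isPullback hXj).mp hj)⟩
  obtain ⟨j, φ, hj⟩ := exists_common_stage i₀
    (fun (x : t) j φ ↦ P (pullback.snd (fU x) (pullback.fst ((V x).ι ≫ g₀) (D.map φ)))) key
    fun x j j' φ ψ h ↦ prop_snd_of_fac (pullback.map _ _ _ _ (𝟙 _) (D.map ψ) (𝟙 _) (by simp)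
      (by simp)) (by simp) h
  let pY := pullback.fst g₀ (D.map φ)
  refine ⟨j, φ, _, _, _, _, pY, _, IsPullback.of_hasPullback g₀ (D.map φ),
    IsPullback.of_hasPullback f₀ pY, ?_⟩
  let 𝒰 : X₀.OpenCover := X₀.openCoverOfIsOpenCover (fun x : t => U x) <| by
    refine eq_top_iff.2 fun y _ => ?_
    obtain ⟨x, hx, hyx⟩ := Set.mem_iUnion₂.1 (ht.ge (Set.mem_univ y))
    exact Opens.mem_iSup.2 ⟨⟨x, hx⟩, hyx⟩
  rw [IsZariskiLocalAtSource.iff_of_openCover (P := P) (𝒰.pullback₁ (pullback.fst f₀ pY))]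
  intro x
  change P (pullback.fst (pullback.fst f₀ pY) (U x.1).ι ≫ pullback.snd f₀ pY)
  have h₀ : IsPullback (pullback.snd (pullback.fst f₀ pY) (U x.1).ι)
      (pullback.fst (pullback.fst f₀ pY) (U x.1).ι ≫ pullback.snd f₀ pY) (fU x.1 ≫ (V x.1).ι) pY := by
    rw [Scheme.Hom.resLE_comp_ι]
    exact (IsPullback.of_hasPullback (pullback.fst f₀ pY) (U x.1).ι).flip.paste_vert
      (IsPullback.of_hasPullback f₀ pY)
  refine (prop_iff_of_isPullback h₀).mpr ?_
  have h₁ : IsPullback (pullback.fst (fU x.1) (pullback.fst (V x.1).ι pY))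
      (pullback.snd (fU x.1) (pullback.fst (V x.1).ι pY) ≫ pullback.snd (V x.1).ι pY)
      (fU x.1 ≫ (V x.1).ι) pY :=
    (IsPullback.of_hasPullback _ _).paste_vert (IsPullback.of_hasPullback (V x.1).ι pY)
  refine (prop_iff_of_isPullback h₁).mp (hcomp _ _ ?_)
  exact prop_snd_of_fac (pullback.lift (pullback.fst (V x.1).ι pY)
    (pullback.snd (V x.1).ι pY ≫ pullback.snd g₀ (D.map φ)) (by
      rw [reassoc_of% (pullback.condition (f := (V x.1).ι) (g := pY)), Category.assoc]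
      simp [pY, pullback.condition])) (pullback.lift_fst _ _ _) (hj x)

include hc in
/-- Pointwise descent of a property. -/
theorem exists_descend_at_iff (hP : DescendsAffine P @LocallyOfFinitePresentation)
    (hcomp : ∀ {A B C : Scheme.{u}} (u : A ⟶ B) (v : B ⟶ C) [IsOpenImmersion v], P u → P (u ≫ v))
    (i₀ : I) {X₀ Y₀ : Scheme.{u}} (f₀ : X₀ ⟶ Y₀) (g₀ : Y₀ ⟶ D.obj i₀)
    [LocallyOfFinitePresentation f₀] {X Y : Scheme.{u}} {f : X ⟶ Y} {g : Y ⟶ c.pt}
    {qY : Y ⟶ Y₀} {qX : X ⟶ X₀} (hY : IsPullback qY g g₀ (c.π.app i₀))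
    (hX : IsPullback qX f f₀ qY) (x : X) :
    (∃ U : X.Opens, x ∈ U ∧ P (U.ι ≫ f)) ↔
      ∃ (j : I) (φ : j ⟶ i₀) (Xj Yj : Scheme.{u}) (fj : Xj ⟶ Yj) (gj : Yj ⟶ D.obj j) (pY : Yj ⟶ Y₀)
        (pX : Xj ⟶ X₀) (rX : X ⟶ Xj), IsPullback pY gj g₀ (D.map φ) ∧ IsPullback pX fj f₀ pY ∧
          rX ≫ pX = qX ∧ rX ≫ fj ≫ gj = f ≫ g ≫ c.π.app j ∧
          ∃ V : Xj.Opens, rX.base x ∈ V ∧ P (V.ι ≫ fj) := by
  constructor
  · rintro ⟨U, hxU, hU⟩
    -- a compact open neighbourhood of `qX x` and one of `x` over it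
    obtain ⟨U₀, hU₀, hxU₀, -⟩ :=
      exists_isAffineOpen_mem_and_subset (x := qX x) (U := (⊤ : X₀.Opens)) trivial
    obtain ⟨U', hU', hxU', hU'le⟩ := exists_isAffineOpen_mem_and_subset (x := x)
      (U := U ⊓ qX ⁻¹ᵁ U₀) ⟨hxU, hxU₀⟩
    let a : (U₀ : Scheme.{u}) ⟶ D.obj i₀ := U₀.ι ≫ f₀ ≫ g₀
    -- the restriction of `X` over `U₀` is the limit of the restrictions
    let XU : Scheme.{u} := qX ⁻¹ᵁ U₀
    have hXU : IsPullback (qX ∣_ U₀) ((qX ⁻¹ᵁ U₀).ι ≫ f ≫ g) a (c.π.app i₀) :=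
      (isPullback_morphismRestrict qX U₀).paste_vert (hX.paste_vert hY)
    let e := hXU.isoPullback
    let U'' : (pbCone D c i₀ a).pt.Opens := e.inv ⁻¹ᵁ ((qX ⁻¹ᵁ U₀).ι ⁻¹ᵁ U')
    have hU'' : IsCompact (U'' : Set (pbCone D c i₀ a).pt) :=
      (IsAffineOpen.preimage_of_isIso ((IsAffineOpen.preimage_of_isOpenImmersion hU' _ (by
        rw [Scheme.Opens.opensRange_ι]; exact hU'le.trans inf_le_right))) e.inv).isCompact
    have : CompactSpace (U₀ : Scheme.{u}) := isCompact_iff_compactSpace.1 hU₀.isCompact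
    obtain ⟨k, W, hWc, hW⟩ := exists_preimage_eq (pbDiagram D i₀ a) _ (isLimitPbCone D i₀ a hc) U'' hU''
    let Yk := pullback g₀ (D.map k.hom)
    let pY : Yk ⟶ Y₀ := pullback.fst _ _
    let Xk := pullback f₀ pY
    let vY : Y ⟶ Yk := pullback.lift qY (g ≫ c.π.app k.left) (by rw [hY.w, Category.assoc, c.w])
    have hvY : IsPullback vY g (pullback.snd g₀ (D.map k.hom)) (c.π.app k.left) :=
      IsPullback.of_right (h₁₂ := pY) (h₂₂ := D.map k.hom) (v₁₃ := g₀)
        (by rw [pullback.lift_fst, c.w]; exact hY) (pullback.lift_snd _ _ _)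
        (IsPullback.of_hasPullback g₀ (D.map k.hom))
    let rX : X ⟶ Xk := pullback.lift qX (f ≫ vY) (by
      rw [Category.assoc, pullback.lift_fst]; exact hX.w)
    have hrX : IsPullback rX f (pullback.snd f₀ pY) vY :=
      IsPullback.of_right (h₁₂ := pullback.fst f₀ pY) (h₂₂ := pY) (v₁₃ := f₀)
        (by rw [pullback.lift_fst, pullback.lift_fst]; exact hX) (pullback.lift_snd _ _ _)
        (IsPullback.of_hasPullback f₀ pY)
    -- the open of the stage
    let ι' : (pbDiagram D i₀ a).obj k ⟶ Xk := pullback.lift (pullback.fst a (D.map k.hom) ≫ U₀.ι)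
      (pullback.lift (pullback.fst a (D.map k.hom) ≫ U₀.ι ≫ f₀) (pullback.snd a (D.map k.hom))
        (by simpa [a] using pullback.condition (f := a) (g := D.map k.hom)))
      (by simp [pY, Yk])
    have hι' : IsPullback (pullback.fst a (D.map k.hom)) ι' U₀.ι (pullback.fst f₀ pY) :=
      IsPullback.of_bot (v₂₁ := pullback.snd f₀ pY ≫ pullback.snd g₀ (D.map k.hom))
        (by
          simp only [ι', pullback.lift_snd_assoc, pullback.lift_snd]
          exact IsPullback.of_hasPullback a (D.map k.hom))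
        (by simp [ι'])
        ((IsPullback.of_hasPullback f₀ pY).paste_vert (IsPullback.of_hasPullback g₀ (D.map k.hom)))
    have : IsOpenImmersion ι' :=
      MorphismProperty.of_isPullback (P := @IsOpenImmersion) hι' inferInstance
    let V : Xk.Opens := ι' ''ᵁ W
    have hVc : IsCompact (V : Set Xk) := hWc.image ι'.continuous
    have hrι : e.hom ≫ (pbCone D c i₀ a).π.app k ≫ ι' = (qX ⁻¹ᵁ U₀).ι ≫ rX := by
      apply pullback.hom_ext
      · simp [ι', rX, e, morphismRestrict_ι]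
      · apply pullback.hom_ext
        · simp [ι', rX, e, morphismRestrict_ι, vY, pY, Yk, ← hX.w, reassoc_of% (morphismRestrict_ι qX U₀)]
        · simp [ι', rX, e, vY, Yk]
    let q : XU ⟶ pullback a (D.map k.hom) := e.hom ≫ (pbCone D c i₀ a).π.app k
    have hq : q ≫ ι' = (qX ⁻¹ᵁ U₀).ι ≫ rX := by
      rw [← hrι]; exact Category.assoc _ _ _
    have hqW : q ⁻¹ᵁ W = (qX ⁻¹ᵁ U₀).ι ⁻¹ᵁ U' := by
      refine (congrArg (fun O => e.hom ⁻¹ᵁ O) hW).trans ?_
      show (e.hom ≫ e.inv) ⁻¹ᵁ ((qX ⁻¹ᵁ U₀).ι ⁻¹ᵁ U') = _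
      rw [e.hom_inv_id]
      rfl
    have hfst : ι' ≫ pullback.fst f₀ pY = pullback.fst a (D.map k.hom) ≫ U₀.ι := by simp [ι']
    have hrq : ∀ z : XU, ι' (q z) = rX ((qX ⁻¹ᵁ U₀).ι z) := fun z =>
      congrArg (fun u => u.base z) hq
    have hpre : rX ⁻¹ᵁ V = U' := by
      ext y
      constructor
      · rintro ⟨w, hw, hwy⟩
        have hy₀ : y ∈ qX ⁻¹ᵁ U₀ := by
          have h₁ : qX y = pullback.fst f₀ pY (rX y) :=
            congrArg (fun u => u.base y) (pullback.lift_fst (f := f₀) (g := pY) qX (f ≫ vY) _).symm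
          have h₂ : pullback.fst f₀ pY (ι' w) = U₀.ι (pullback.fst a (D.map k.hom) w) :=
            congrArg (fun u => u.base w) hfst
          show qX y ∈ U₀
          rw [h₁, ← hwy]
          exact h₂ ▸ (pullback.fst a (D.map k.hom) w).2
        have hwq : q (⟨y, hy₀⟩ : XU) = w :=
          ι'.isOpenEmbedding.injective ((hrq _).trans hwy.symm)
        have hmem : (⟨y, hy₀⟩ : XU) ∈ q ⁻¹ᵁ W := by
          show q (⟨y, hy₀⟩ : XU) ∈ W
          rw [hwq]
          exact hw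
        rw [hqW] at hmem
        exact hmem
      · intro hy
        have hmem : (⟨y, (hU'le hy).2⟩ : XU) ∈ q ⁻¹ᵁ W := by
          rw [hqW]
          exact hy
        exact ⟨_, hmem, hrq _⟩
    have : CompactSpace (V : Scheme.{u}) := isCompact_iff_compactSpace.1 hVc
    have hUP : P (U'.ι ≫ f) := by
      rw [← Scheme.homOfLE_ι X (hU'le.trans inf_le_left), Category.assoc]
      exact IsZariskiLocalAtSource.comp hU _
    have hV : IsPullback (rX ∣_ V) ((rX ⁻¹ᵁ V).ι ≫ f) (V.ι ≫ pullback.snd f₀ pY) vY :=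
      (isPullback_morphismRestrict rX V).paste_vert hrX
    obtain ⟨j, φ, Xj, Yj, fj, gj, qYj, qXj, hYj, hXj, hj⟩ := exists_descend_square_of_compact hc hP
      hcomp k.left (V.ι ≫ pullback.snd f₀ pY) (pullback.snd g₀ (D.map k.hom)) hvY hV
      (hpre.symm ▸ hUP)
    let pXj := pullback.fst (pullback.snd f₀ pY) qYj
    let uY : Y ⟶ Yj := hYj.lift vY (g ≫ c.π.app j) (by rw [hvY.w, Category.assoc, c.w])
    let r : X ⟶ pullback (pullback.snd f₀ pY) qYj := pullback.lift rX (f ≫ uY) (by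
      rw [Category.assoc, hYj.lift_fst]; exact pullback.lift_snd _ _ _)
    refine ⟨j, φ ≫ k.hom, _, Yj, pullback.snd (pullback.snd f₀ pY) qYj, gj, qYj ≫ pY,
      pXj ≫ pullback.fst f₀ pY, r, ?_,
      (IsPullback.of_hasPullback _ _).paste_horiz (IsPullback.of_hasPullback f₀ pY), ?_, ?_,
      pXj ⁻¹ᵁ V, ?_, ?_⟩
    · rw [D.map_comp]
      exact hYj.paste_horiz (IsPullback.of_hasPullback g₀ (D.map k.hom))
    · simp [r, pXj, rX]
    · simp [r, uY]
    · show pXj (r x) ∈ V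
      rw [← Scheme.Hom.comp_apply, pullback.lift_fst]
      exact hpre.ge hxU'
    · refine (prop_iff_of_isPullback ((isPullback_morphismRestrict pXj V).paste_vert
        (IsPullback.of_hasPullback (pullback.snd f₀ pY) qYj))).mpr ?_
      exact (prop_iff_of_isPullback hXj).mp hj
  · rintro ⟨j, φ, Xj, Yj, fj, gj, pY, pX, rX, hYj, hXj, hr₁, hr₂, V, hxV, hV⟩
    let vY : Y ⟶ Yj := hYj.lift qY (g ≫ c.π.app j) (by rw [hY.w, Category.assoc, c.w])
    have hrf : rX ≫ fj = f ≫ vY := by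
      apply hYj.hom_ext
      · rw [Category.assoc, Category.assoc, hYj.lift_fst, ← hXj.w, reassoc_of% hr₁]
        exact hX.w
      · rw [Category.assoc, Category.assoc, hYj.lift_snd]
        exact hr₂
    have hrX : IsPullback rX f fj vY :=
      IsPullback.of_right (h₁₂ := pX) (h₂₂ := pY) (v₁₃ := f₀)
        (by rw [hr₁, hYj.lift_fst]; exact hX) hrf hXj
    refine ⟨rX ⁻¹ᵁ V, hxV, ?_⟩
    exact (prop_iff_of_isPullback ((isPullback_morphismRestrict rX V).paste_vert hrX)).mpr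
      (P.pullback_snd _ _ hV)

end Groth.Agent.H06EGA8
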