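import Groth.Agent.H06EGA8.DescendLocal

/-!
# Descent of unramified morphisms in locally finitely presented form
-/

set_option autoImplicit false

universe u

open CategoryTheory Limits AlgebraicGeometry

namespace Groth.Agent.H06EGA8

open H7Lim

theorem descendsAffine_formallyUnramified' :
    DescendsAffine.{u} @FormallyUnramified @LocallyOfFinitePresentation := by
  intro J _ _ E d hd _ _ e T a _ _ ha h
  have : LocallyOfFinitePresentation a := ha
  exact descendsAffine_formallyUnramified J E d hd e a (inferInstanceAs (LocallyOfFiniteType a)) h

end Groth.Agent.H06EGA8
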